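import Cfsg.Agent.SW.K
import Cfsg.Agent.Bt.Part
import Cfsg.Agent.Bt.Iso
import Cfsg.Agent.Comp.Mat

set_option autoImplicit false
set_option maxRecDepth 1000000

namespace CF.SW.M23

open CF.JC CF.Comp CF.Bt

noncomputable def X_0 : Net := (Net.cons (nat_lit 1) (nat_lit 86016) (Net.cons (nat_lit 2) (nat_lit 73984) (Net.cons (nat_lit 4) (nat_lit 256) (Net.cons (nat_lit 8) (nat_lit 1) (Net.cons (nat_lit 16) (nat_lit 1) (Net.cons (nat_lit 8) (nat_lit 145) (Net.cons (nat_lit 4) (nat_lit 1280) (Net.cons (nat_lit 2) (nat_lit 205059) (Net.cons (nat_lit 1) (nat_lit 1134592) Net.nil)))))))))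
noncomputable def X_1 : Net := (Net.cons (nat_lit 1) (nat_lit 82944) (Net.cons (nat_lit 2) (nat_lit 3223808) (Net.cons (nat_lit 4) (nat_lit 65792) (Net.cons (nat_lit 8) (nat_lit 64) (Net.cons (nat_lit 16) (nat_lit 218) (Net.cons (nat_lit 8) (nat_lit 69) (Net.cons (nat_lit 4) (nat_lit 67840) (Net.cons (nat_lit 2) (nat_lit 3223808) (Net.cons (nat_lit 1) (nat_lit 82944) Net.nil)))))))))
noncomputable def X_2 : Net := (Net.cons (nat_lit 1) (nat_lit 1115152) (Net.cons (nat_lit 2) (nat_lit 3276800) (Net.cons (nat_lit 4) (nat_lit 131072) (Net.cons (nat_lit 8) (nat_lit 128) (Net.cons (nat_lit 16) (nat_lit 172) (Net.cons (nat_lit 8) (nat_lit 72) (Net.cons (nat_lit 4) (nat_lit 723208) (Net.cons (nat_lit 2) (nat_lit 3276800) (Net.cons (nat_lit 1) (nat_lit 1115152) Net.nil)))))))))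
noncomputable def X_3 : Net := (Net.cons (nat_lit 1) (nat_lit 1377280) (Net.cons (nat_lit 2) (nat_lit 131072) (Net.cons (nat_lit 4) (nat_lit 1280) (Net.cons (nat_lit 8) (nat_lit 13) (Net.cons (nat_lit 16) (nat_lit 77) (Net.cons (nat_lit 8) (nat_lit 157) (Net.cons (nat_lit 4) (nat_lit 132352) (Net.cons (nat_lit 2) (nat_lit 200704) (Net.cons (nat_lit 1) (nat_lit 1377284) Net.nil)))))))))
noncomputable def X_4 : Net := (Net.cons (nat_lit 1) (nat_lit 1130500) (Net.cons (nat_lit 2) (nat_lit 1122336) (Net.cons (nat_lit 4) (nat_lit 329728) (Net.cons (nat_lit 8) (nat_lit 16) (Net.cons (nat_lit 16) (nat_lit 62) (Net.cons (nat_lit 8) (nat_lit 9) (Net.cons (nat_lit 4) (nat_lit 462083) (Net.cons (nat_lit 2) (nat_lit 1122339) (Net.cons (nat_lit 1) (nat_lit 348161) Net.nil)))))))))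
noncomputable def X_5 : Net := (Net.cons (nat_lit 1) (nat_lit 66816) (Net.cons (nat_lit 2) (nat_lit 1179648) (Net.cons (nat_lit 4) (nat_lit 2048) (Net.cons (nat_lit 8) (nat_lit 42) (Net.cons (nat_lit 16) (nat_lit 42) (Net.cons (nat_lit 8) (nat_lit 186) (Net.cons (nat_lit 4) (nat_lit 264192) (Net.cons (nat_lit 2) (nat_lit 1179648) (Net.cons (nat_lit 1) (nat_lit 66821) Net.nil)))))))))
noncomputable def X_6 : Net := (Net.cons (nat_lit 1) (nat_lit 262464) (Net.cons (nat_lit 2) (nat_lit 66064) (Net.cons (nat_lit 4) (nat_lit 524288) (Net.cons (nat_lit 8) (nat_lit 144) (Net.cons (nat_lit 16) (nat_lit 148) (Net.cons (nat_lit 8) (nat_lit 170) (Net.cons (nat_lit 4) (nat_lit 524806) (Net.cons (nat_lit 2) (nat_lit 65808) (Net.cons (nat_lit 1) (nat_lit 1089) Net.nil)))))))))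
noncomputable def X_7 : Net := (Net.cons (nat_lit 1) (nat_lit 4472896) (Net.cons (nat_lit 2) (nat_lit 2163232) (Net.cons (nat_lit 4) (nat_lit 330496) (Net.cons (nat_lit 8) (nat_lit 80) (Net.cons (nat_lit 16) (nat_lit 120) (Net.cons (nat_lit 8) (nat_lit 194) (Net.cons (nat_lit 4) (nat_lit 462592) (Net.cons (nat_lit 2) (nat_lit 2162720) (Net.cons (nat_lit 1) (nat_lit 4472901) Net.nil)))))))))
noncomputable def X_8 : Net := (Net.cons (nat_lit 1) (nat_lit 4210692) (Net.cons (nat_lit 2) (nat_lit 1179936) (Net.cons (nat_lit 4) (nat_lit 264448) (Net.cons (nat_lit 8) (nat_lit 1) (Net.cons (nat_lit 16) (nat_lit 39) (Net.cons (nat_lit 8) (nat_lit 145) (Net.cons (nat_lit 4) (nat_lit 920834) (Net.cons (nat_lit 2) (nat_lit 1179936) (Net.cons (nat_lit 1) (nat_lit 4210692) Net.nil)))))))))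
noncomputable def X_9 : Net := Net.nil
noncomputable def X_10 : Net := (Net.cons (nat_lit 1) (nat_lit 5587200) (Net.cons (nat_lit 2) (nat_lit 69680) (Net.cons (nat_lit 4) (nat_lit 131840) (Net.cons (nat_lit 8) (nat_lit 13) (Net.cons (nat_lit 16) (nat_lit 15) (Net.cons (nat_lit 8) (nat_lit 108) (Net.cons (nat_lit 4) (nat_lit 655620) (Net.cons (nat_lit 2) (nat_lit 200752) (Net.cons (nat_lit 1) (nat_lit 4474112) Net.nil)))))))))
noncomputable def X_11 : Net := (Net.cons (nat_lit 1) (nat_lit 4259920) (Net.cons (nat_lit 2) (nat_lit 48) (Net.cons (nat_lit 4) (nat_lit 593408) (Net.cons (nat_lit 16) (nat_lit 150) (Net.cons (nat_lit 8) (nat_lit 195) (Net.cons (nat_lit 4) (nat_lit 722691) (Net.cons (nat_lit 2) (nat_lit 2109472) (Net.cons (nat_lit 1) (nat_lit 4199489) Net.nil))))))))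
noncomputable def X : List Net := [X_0, X_1, X_2, X_3, X_4, X_5, X_6, X_7, X_8, X_9, X_10, X_11]
noncomputable def X1_0 : Net := (Net.cons (nat_lit 1) (nat_lit 262164) (Net.cons (nat_lit 2) (nat_lit 197392) (Net.cons (nat_lit 4) (nat_lit 655616) (Net.cons (nat_lit 16) (nat_lit 146) (Net.cons (nat_lit 8) (nat_lit 88) (Net.cons (nat_lit 4) (nat_lit 918540) (Net.cons (nat_lit 2) (nat_lit 131888) (Net.cons (nat_lit 1) (nat_lit 16640) Net.nil))))))))
noncomputable def X1_1 : Net := (Net.cons (nat_lit 1) (nat_lit 5243200) (Net.cons (nat_lit 2) (nat_lit 1257488) (Net.cons (nat_lit 4) (nat_lit 66048) (Net.cons (nat_lit 8) (nat_lit 32) (Net.cons (nat_lit 16) (nat_lit 118) (Net.cons (nat_lit 8) (nat_lit 220) (Net.cons (nat_lit 4) (nat_lit 721420) (Net.cons (nat_lit 2) (nat_lit 1249586) (Net.cons (nat_lit 1) (nat_lit 4477952) Net.nil)))))))))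
noncomputable def X1_2 : Net := (Net.cons (nat_lit 1) (nat_lit 1048900) (Net.cons (nat_lit 2) (nat_lit 1183792) (Net.cons (nat_lit 4) (nat_lit 1792) (Net.cons (nat_lit 8) (nat_lit 9) (Net.cons (nat_lit 16) (nat_lit 105) (Net.cons (nat_lit 8) (nat_lit 189) (Net.cons (nat_lit 4) (nat_lit 396806) (Net.cons (nat_lit 2) (nat_lit 1122848) (Net.cons (nat_lit 1) (nat_lit 1115220) Net.nil)))))))))
noncomputable def X1_3 : Net := (Net.cons (nat_lit 1) (nat_lit 82004) (Net.cons (nat_lit 2) (nat_lit 1258016) (Net.cons (nat_lit 4) (nat_lit 393216) (Net.cons (nat_lit 8) (nat_lit 109) (Net.cons (nat_lit 16) (nat_lit 109) (Net.cons (nat_lit 8) (nat_lit 31) (Net.cons (nat_lit 4) (nat_lit 331014) (Net.cons (nat_lit 2) (nat_lit 131088) (Net.cons (nat_lit 1) (nat_lit 283908) Net.nil)))))))))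
noncomputable def X1_4 : Net := (Net.cons (nat_lit 1) (nat_lit 5260308) (Net.cons (nat_lit 2) (nat_lit 2294288) (Net.cons (nat_lit 4) (nat_lit 68096) (Net.cons (nat_lit 8) (nat_lit 57) (Net.cons (nat_lit 16) (nat_lit 63) (Net.cons (nat_lit 8) (nat_lit 141) (Net.cons (nat_lit 4) (nat_lit 590598) (Net.cons (nat_lit 2) (nat_lit 131120) (Net.cons (nat_lit 1) (nat_lit 4543812) Net.nil)))))))))
noncomputable def X1_5 : Net := (Net.cons (nat_lit 1) (nat_lit 84) (Net.cons (nat_lit 2) (nat_lit 1179696) (Net.cons (nat_lit 4) (nat_lit 458752) (Net.cons (nat_lit 8) (nat_lit 88) (Net.cons (nat_lit 16) (nat_lit 94) (Net.cons (nat_lit 8) (nat_lit 88) (Net.cons (nat_lit 4) (nat_lit 329222) (Net.cons (nat_lit 2) (nat_lit 131120) (Net.cons (nat_lit 1) (nat_lit 5380) Net.nil)))))))))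
noncomputable def X1_6 : Net := (Net.cons (nat_lit 1) (nat_lit 4198464) (Net.cons (nat_lit 2) (nat_lit 1179904) (Net.cons (nat_lit 4) (nat_lit 131840) (Net.cons (nat_lit 8) (nat_lit 100) (Net.cons (nat_lit 16) (nat_lit 100) (Net.cons (nat_lit 8) (nat_lit 118) (Net.cons (nat_lit 4) (nat_lit 131840) (Net.cons (nat_lit 2) (nat_lit 3277088) (Net.cons (nat_lit 1) (nat_lit 4264000) Net.nil)))))))))
noncomputable def X1_7 : Net := (Net.cons (nat_lit 1) (nat_lit 5259348) (Net.cons (nat_lit 2) (nat_lit 197120) (Net.cons (nat_lit 4) (nat_lit 67584) (Net.cons (nat_lit 8) (nat_lit 8) (Net.cons (nat_lit 16) (nat_lit 154) (Net.cons (nat_lit 8) (nat_lit 14) (Net.cons (nat_lit 4) (nat_lit 657670) (Net.cons (nat_lit 2) (nat_lit 2163232) (Net.cons (nat_lit 1) (nat_lit 5260564) Net.nil)))))))))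
noncomputable def X1_8 : Net := (Net.cons (nat_lit 1) (nat_lit 65552) (Net.cons (nat_lit 2) (nat_lit 200736) (Net.cons (nat_lit 4) (nat_lit 983040) (Net.cons (nat_lit 8) (nat_lit 67) (Net.cons (nat_lit 16) (nat_lit 195) (Net.cons (nat_lit 8) (nat_lit 27) (Net.cons (nat_lit 4) (nat_lit 787722) (Net.cons (nat_lit 2) (nat_lit 131330) (Net.cons (nat_lit 1) (nat_lit 65552) Net.nil)))))))))
noncomputable def X1_9 : Net := (Net.cons (nat_lit 1) (nat_lit 1377616) (Net.cons (nat_lit 2) (nat_lit 1126912) (Net.cons (nat_lit 4) (nat_lit 133120) (Net.cons (nat_lit 8) (nat_lit 35) (Net.cons (nat_lit 16) (nat_lit 39) (Net.cons (nat_lit 8) (nat_lit 181) (Net.cons (nat_lit 4) (nat_lit 262412) (Net.cons (nat_lit 2) (nat_lit 1052688) (Net.cons (nat_lit 1) (nat_lit 87316) Net.nil)))))))))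
noncomputable def X1_10 : Net := (Net.cons (nat_lit 1) (nat_lit 266244) (Net.cons (nat_lit 2) (nat_lit 1114416) (Net.cons (nat_lit 4) (nat_lit 395264) (Net.cons (nat_lit 8) (nat_lit 1) (Net.cons (nat_lit 16) (nat_lit 99) (Net.cons (nat_lit 8) (nat_lit 41) (Net.cons (nat_lit 4) (nat_lit 461828) (Net.cons (nat_lit 2) (nat_lit 197408) (Net.cons (nat_lit 1) (nat_lit 282628) Net.nil)))))))))
noncomputable def X1_11 : Net := (Net.cons (nat_lit 1) (nat_lit 348416) (Net.cons (nat_lit 2) (nat_lit 1060896) (Net.cons (nat_lit 4) (nat_lit 527104) (Net.cons (nat_lit 8) (nat_lit 33) (Net.cons (nat_lit 16) (nat_lit 245) (Net.cons (nat_lit 8) (nat_lit 167) (Net.cons (nat_lit 4) (nat_lit 786694) (Net.cons (nat_lit 2) (nat_lit 143664) (Net.cons (nat_lit 1) (nat_lit 1332564) Net.nil)))))))))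
noncomputable def X1_12 : Net := (Net.cons (nat_lit 1) (nat_lit 1134656) (Net.cons (nat_lit 2) (nat_lit 196640) (Net.cons (nat_lit 4) (nat_lit 394240) (Net.cons (nat_lit 8) (nat_lit 3) (Net.cons (nat_lit 16) (nat_lit 55) (Net.cons (nat_lit 8) (nat_lit 225) (Net.cons (nat_lit 4) (nat_lit 265230) (Net.cons (nat_lit 2) (nat_lit 65568) (Net.cons (nat_lit 1) (nat_lit 1331520) Net.nil)))))))))
noncomputable def X1_13 : Net := (Net.cons (nat_lit 1) (nat_lit 1115200) (Net.cons (nat_lit 2) (nat_lit 2101760) (Net.cons (nat_lit 4) (nat_lit 394240) (Net.cons (nat_lit 8) (nat_lit 64) (Net.cons (nat_lit 16) (nat_lit 228) (Net.cons (nat_lit 8) (nat_lit 148) (Net.cons (nat_lit 4) (nat_lit 461832) (Net.cons (nat_lit 2) (nat_lit 3277104) (Net.cons (nat_lit 1) (nat_lit 328708) Net.nil)))))))))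
noncomputable def X1_14 : Net := (Net.cons (nat_lit 1) (nat_lit 5260560) (Net.cons (nat_lit 2) (nat_lit 3158320) (Net.cons (nat_lit 4) (nat_lit 66048) (Net.cons (nat_lit 8) (nat_lit 66) (Net.cons (nat_lit 16) (nat_lit 90) (Net.cons (nat_lit 8) (nat_lit 62) (Net.cons (nat_lit 4) (nat_lit 852992) (Net.cons (nat_lit 2) (nat_lit 1188096) (Net.cons (nat_lit 1) (nat_lit 5242900) Net.nil)))))))))
noncomputable def X1_15 : Net := (Net.cons (nat_lit 1) (nat_lit 1134592) (Net.cons (nat_lit 2) (nat_lit 2171136) (Net.cons (nat_lit 4) (nat_lit 328448) (Net.cons (nat_lit 8) (nat_lit 128) (Net.cons (nat_lit 16) (nat_lit 216) (Net.cons (nat_lit 8) (nat_lit 52) (Net.cons (nat_lit 4) (nat_lit 67328) (Net.cons (nat_lit 2) (nat_lit 2302720) (Net.cons (nat_lit 1) (nat_lit 1134592) Net.nil)))))))))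
noncomputable def X1_16 : Net := (Net.cons (nat_lit 1) (nat_lit 5588224) (Net.cons (nat_lit 2) (nat_lit 2097664) (Net.cons (nat_lit 4) (nat_lit 852736) (Net.cons (nat_lit 8) (nat_lit 32) (Net.cons (nat_lit 16) (nat_lit 120) (Net.cons (nat_lit 8) (nat_lit 16) (Net.cons (nat_lit 4) (nat_lit 461312) (Net.cons (nat_lit 2) (nat_lit 2097920) (Net.cons (nat_lit 1) (nat_lit 5505360) Net.nil)))))))))
noncomputable def X1 : List Net := [X1_0, X1_1, X1_2, X1_3, X1_4, X1_5, X1_6, X1_7, X1_8, X1_9, X1_10, X1_11, X1_12, X1_13, X1_14, X1_15, X1_16]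
noncomputable def ws : List (List Nat) := [[8, 4, 7, 7, 9, 21, 16, 21, 20], [3, 1, 8, 5, 10, 12, 13, 20, 23], [11, 10, 16, 21, 14, 19, 22, 23], [9, 15, 21, 16, 20, 24], [14, 1, 11, 5, 20, 14, 22, 17, 20], [7, 4, 22, 8, 12, 16, 14], [7, 4, 6, 13, 10, 16, 21, 14, 21, 20, 23], [7, 4, 6, 9, 9, 20, 14, 19, 21, 24], [6, 12, 9, 13, 18, 22, 24], [], [3, 1, 10, 5, 13, 9, 18, 16, 19, 21, 24], [2, 20, 8, 10, 10, 18, 13]]
noncomputable def W : List (List Nat) := [[2, 14, 23, 7, 3], [4, 13, 5, 1], [4, 21, 25, 22, 3], [22, 3, 25, 25, 27], [31, 31, 31, 30, 31], [31, 31, 29, 29, 31], [33, 35, 33, 35, 33, 36, 33], [34, 35, 33, 33, 36, 34], [33, 33, 36, 36, 34, 35, 34], [2, 6, 21, 13, 1], [2, 4, 24, 14, 1], [44, 44, 46, 44, 45, 44], [44, 45, 43, 45, 45, 44], [48, 50, 48, 48, 48, 50, 48, 50, 47, 47, 47], [47, 47, 47, 49, 49, 48], [53, 52, 52, 54, 54], [51, 51, 53, 52, 54, 51]]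
noncomputable def C0T : Tr := (.op 2 0 (.op 5 0 (.xor 1 0 (.focus 0 (.sym [[1], [3], [5], [7]] (.cons [] 1 1 (.op 4 0 (.focus 0 (.cons [] 0 1 (.op 10 2 (.focus 0 (.cons [] 0 1 (.op 16 4 (.focus 0 (.cons [] 0 1 (.op 22 6 (.focus 0 (.cons [] 0 1 (.op 4 4 (.focus 0 (.cons [] 0 1 .triv .nil))) .nil))) .nil))) .nil))) .nil))) .nil))))))
noncomputable def C0TK : List (List Nat) := [[1], [3], [9], [11]]
noncomputable def C0TF : List (List Nat) := [[], [1], [3], [5], [7], [3, 1], [5, 1], [7, 1], [5, 3], [7, 3], [7, 5], [5, 3, 1], [7, 3, 1], [7, 5, 1], [7, 5, 3], [7, 5, 3, 1]]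
noncomputable def C0 : CD := ⟨[⟨0, [[1], [3], [5], [7], [9], [11], [13], [15], [17], [21], [23]], 2⟩, ⟨2, [[25], [4, 21], [27]], 3⟩, ⟨15, [[29], [31]], 4⟩, ⟨13, [[33], [35]], 5⟩, ⟨1, [[37], [39], [41]], 2⟩, ⟨8, [[39, 41]], 2⟩], C0TF, C0TK, C0T⟩
noncomputable def C1T : Tr := (.op 5 0 (.focus 0 (.op 2 0 (.op 11 0 (.xor 1 0 (.focus 0 (.sym [[1], [3], [5], [7]] (.cons [] 1 4 (.focus 4 (.focus 1 (.op 16 0 (.focus 0 (.cons [] 0 4 (.focus 6 (.focus 3 (.op 22 2 (.focus 0 (.cons [] 0 4 (.focus 8 (.focus 5 (.op 16 0 (.focus 0 (.cons [] 0 4 (.focus 7 (.xor 9 10 (.focus 0 (.sym [[1], [3]] (.cons [] 1 1 (.op 10 0 (.focus 0 (.cons [] 0 1 .triv .nil))) (.cons [5] 1 0 (.op 20 0 (.and 1 0 (.dead0 0))) (.cons [2] 1 0 (.op 20 0 (.and 1 0 (.dead0 0))) .nil))))))) .nil))))) .nil))))) .nil))))) .nil))))))))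
noncomputable def C1TK : List (List Nat) := [[5], [7], [9, 5], [11, 7]]
noncomputable def C1TF : List (List Nat) := [[], [1], [3], [5], [7], [3, 1], [5, 1], [7, 1], [5, 3], [7, 3], [7, 5], [5, 3, 1], [7, 3, 1], [7, 5, 1], [7, 5, 3], [7, 5, 3, 1]]
noncomputable def C1 : CD := ⟨[⟨0, [[1], [3], [5], [7], [9], [11], [13], [15], [17], [21], [23]], 2⟩, ⟨13, [[43], [45]], 5⟩, ⟨1, [[47], [49]], 5⟩, ⟨21, [[51], [53]], 4⟩, ⟨2, [[55], [57], [54, 52]], 2⟩, ⟨3, [[58]], 2⟩], C1TF, C1TK, C1T⟩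
def N : H × H × H := (⟨.i, .o, .i⟩, ⟨.i, .o, .w⟩, ⟨.w, .o, .b⟩)
def N' : H × H × H := (⟨.o, .o, .i⟩, ⟨.o, .o, .b⟩, ⟨.o, .b, .o⟩)
def q : H := ⟨.o, .i, .o⟩
def l : Nat → List (List Nat × StdZ.He.F4)
  | 0 => [([22, 15, 21], .i), ([22, 16, 22], .w)]
  | 1 => [([22, 16, 22], .w), ([], .w), ([22, 14, 22], .i)]
  | 2 => [([22, 1], .i), ([1], .i)]
  | _ => [([21, 13, 21], .w)]
theorem h1 : evsOK Mat.cN 24 5 X ws = true := by decide +kernel
theorem h2 : slpOK (lapp X X1) 24 5 W 12 = true := by decide +kernel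
theorem h3 : geOK (lapp X X1) 24 C0.b 10200960 = true := by decide +kernel
theorem h4 : lall (fun r => sameW (lapp X X1) 24 5 r.1 r.2) (RL .o N N' ++ RX l q) = true := by decide +kernel
theorem h5 : difW (lapp X X1) 24 5 [9] [] = true := by decide +kernel
theorem h6 : cleOK (lapp X X1) 24 5 10200960 [[1], [3], [9], [11]] C0 16 = true := by decide +kernel
theorem h7 : cleOK (lapp X X1) 24 5 10200960 [[5], [7], [9], [11]] C1 16 = true := by decide +kernel

theorem ld : Finite (Cfsg.Spor.M23) ∧ ∃ e φ, LD (G := Cfsg.Spor.M23) ⊤ e φ := by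
  obtain ⟨hE, hg⟩ := Exact.fresh Mat.cExact (by decide) (fun w _ => ev_mem Mat.cMem w) h1 (m := 12) rfl h2 Mat.card_M23 h3
  have hf := slp_mem (Bt.evs_mem (ws := ws) (fun w _ => ev_mem Mat.cMem w)) W 12
  replace hE := exact_sub_top hE hf
  haveI := Exact.finite_top hE
  haveI := Mat.isSimpleGroup_M23
  exact ⟨inferInstance, exists_ld (fun r hr => eqv_sameW hE.reps (by decide) hE.faithful _ _ (lall_iff.1 h4 r hr)) (by decide)
    (fun n => nev_difW hE.reps (by decide) _ _ _ h5 ((ev_single _ 4).trans n)) (m := 79695) (Mat.card_M23.trans (by norm_num))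
    (by norm_num) (by decide) (cleOK_spec hE (by decide) (by decide) Mat.card_M23 h6)
    (cleOK_spec hE (by decide) (by decide) Mat.card_M23 h7) (clo_sub_top hf hg)⟩

end CF.SW.M23
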